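import Cfsg.Agent.H89.HM.Model

/-!
# S5175 (T1): the choice of the bad subgroup

`Ctx F N C`: `C` is nontrivial and fully normalized with `N_F(C) ≰ N`, and `|N_S(C)|`, then `|C|`, is maximal.
-/

set_option autoImplicit false

namespace Cfsg.Agent.H89.HM

open Cfsg Cfsg.FusionSystem Cfsg.Agent.H752 Cfsg.Agent.H802 Cfsg.Agent.H753 Cfsg.Agent.H756.HM

variable {Ω : Type*} [Group Ω] {S : Subgroup Ω}

structure Ctx (F N : FusionSystem S) (C : Subgroup Ω) : Prop where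
  pS : IsPGroup 2 S
  satF : F.IsSaturated 2
  satN : N.IsSaturated 2
  le : N ≤ F
  par : HPar F N
  ne : C ≠ ⊥
  fn : F.IsFullyNormalized C
  bad : ¬ NN F N C
  max1 : ∀ D : Subgroup Ω, D ≠ ⊥ → F.IsFullyNormalized D → ¬ NN F N D →
    Nat.card (normalizerIn S D) ≤ Nat.card (normalizerIn S C)
  max2 : ∀ D : Subgroup Ω, D ≠ ⊥ → F.IsFullyNormalized D → ¬ NN F N D →
    Nat.card (normalizerIn S D) = Nat.card (normalizerIn S C) → Nat.card D ≤ Nat.card C

theorem system_ext {F N : FusionSystem S} (h : ∀ P, F.Hom P = N.Hom P) : F = N := by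
  cases F
  cases N
  congr
  exact funext h

theorem exists_max {α : Type*} (p : α → Prop) (w : α → ℕ) (B : ℕ) (hB : ∀ a, p a → w a ≤ B)
    (h : ∃ a, p a) : ∃ a, p a ∧ ∀ b, p b → w b ≤ w a := by
  have h1 : ({n | ∃ a, p a ∧ w a = n} : Set ℕ).Nonempty := by
    obtain ⟨a, ha⟩ := h
    exact ⟨w a, a, ha, rfl⟩
  have h2 : BddAbove ({n | ∃ a, p a ∧ w a = n} : Set ℕ) := by
    refine ⟨B, ?_⟩
    rintro _ ⟨a, ha, rfl⟩
    exact hB a ha
  obtain ⟨a, ha, he⟩ := Nat.sSup_mem h1 h2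
  refine ⟨a, ha, fun b hb => ?_⟩
  rw [he]
  exact le_csSup h2 ⟨b, hb, rfl⟩

theorem one_lt_card {D : Subgroup Ω} [Finite S] (hDS : D ≤ S) (hD : D ≠ ⊥) : 1 < Nat.card D := by
  have : Finite D := finite_of_le hDS
  exact (Subgroup.one_lt_card_iff_ne_bot D).2 hD

theorem exists_ctx [Finite S] (hS : IsPGroup 2 S) {F N : FusionSystem S} (hF : F.IsSaturated 2)
    (hN : N.IsSaturated 2) (hNF : N ≤ F) (hne : N ≠ F) (hpar : HPar F N) : ∃ C, Ctx F N C := by
  have : Fact (Nat.Prime 2) := ⟨Nat.prime_two⟩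
  have hex : ∃ C : Subgroup Ω, C ≠ ⊥ ∧ F.IsFullyNormalized C ∧ ¬ NN F N C := by
    by_contra hcon
    push Not at hcon
    refine hne (system_ext fun P => Set.Subset.antisymm (hNF P) ?_)
    refine le_of_autGroup_le hS hF N (fun Q hQ _ => ?_) P
    by_cases hQ1 : Q = ⊥
    · exact autGroup_bot_le F N hQ1
    · exact autGroup_le_of_nn hQ.1 (hcon Q hQ1 hQ)
  set s := Nat.card S with hs
  have hsub : ∀ D : Subgroup Ω, D ≤ S → Nat.card D ≤ s := fun D hD =>
    Nat.card_mono (Set.toFinite (S : Set Ω)) hD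
  obtain ⟨C, ⟨h1, h2, h3⟩, hmax⟩ := exists_max
    (fun C : Subgroup Ω => C ≠ ⊥ ∧ F.IsFullyNormalized C ∧ ¬ NN F N C)
    (fun C => Nat.card (normalizerIn S C) * (s + 1) + Nat.card C) (s * (s + 1) + s)
    (fun C hC => Nat.add_le_add (Nat.mul_le_mul_right _ (hsub _ inf_le_left)) (hsub _ hC.2.1.1)) hex
  have hCs := hsub C h2.1
  refine ⟨C, hS, hF, hN, hNF, hpar, h1, h2, h3, fun D hD1 hD2 hD3 => ?_, fun D hD1 hD2 hD3 he => ?_⟩
  · have h4 : Nat.card (normalizerIn S D) * (s + 1) + Nat.card D ≤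
      Nat.card (normalizerIn S C) * (s + 1) + Nat.card C := hmax D ⟨hD1, hD2, hD3⟩
    by_contra h5
    have h6 : Nat.card (normalizerIn S C) + 1 ≤ Nat.card (normalizerIn S D) := by omega
    have h7 := Nat.mul_le_mul_right (s + 1) h6
    rw [add_mul] at h7
    omega
  · have h4 : Nat.card (normalizerIn S D) * (s + 1) + Nat.card D ≤
      Nat.card (normalizerIn S C) * (s + 1) + Nat.card C := hmax D ⟨hD1, hD2, hD3⟩
    rw [he] at h4
    omega

namespace Ctx

variable {F N : FusionSystem S} {C : Subgroup Ω} [Finite S]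

theorem nn_top (h : Ctx F N C) : NN F N S := by
  refine nn_of_par h.par ?_ le_rfl Subgroup.le_normalizer (fun f hf x hx => hf.mem hx)
  intro h1
  exact h.ne (le_bot_iff.1 (h1 ▸ h.fn.1))

theorem hom_le (h : Ctx F N C) {P : Subgroup Ω} (hP : Nat.card (normalizerIn S C) ≤ Nat.card P) :
    F.Hom P ⊆ N.Hom P := by
  have : Fact (Nat.Prime 2) := ⟨Nat.prime_two⟩
  refine le_of_autGroup_le_card h.pS h.satF N _ (fun Q hQ hc _ => ?_) P hP
  have h1 : 1 < Nat.card (normalizerIn S C) :=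
    lt_of_lt_of_le (one_lt_card h.fn.1 h.ne)
      (Nat.card_mono ((Set.toFinite (S : Set Ω)).subset inf_le_left) (le_normalizerIn h.fn.1))
  have hQ1 : Q ≠ ⊥ := by
    rintro rfl
    rw [Subgroup.card_bot] at hc
    omega
  refine autGroup_le_of_nn hQ.1 ?_
  by_cases hQS : Q = S
  · rw [hQS]
    exact h.nn_top
  · by_contra h2
    have h3 := h.max1 Q hQ1 hQ h2
    have h4 := card_lt_card_normalizerIn h.pS hQ.1 hQS
    omega

theorem step2 (h : Ctx F N C) {D : Subgroup Ω} (hDS : D ≤ S) (hD : D ≠ ⊥)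
    (hc : Nat.card (normalizerIn S C) ≤ Nat.card (normalizerIn S D)) (hn : ¬ NN F N D) :
    Nat.card (normalizerIn S D) = Nat.card (normalizerIn S C) ∧ F.IsFullyNormalized D := by
  have : Fact (Nat.Prime 2) := ⟨Nat.prime_two⟩
  obtain ⟨Q, hDQ, hQ⟩ := exists_isFullyNormalized h.pS h.satF hDS
  have hcard := isConj_card_eq hDQ
  have hDQ' := hDQ
  obtain ⟨φ, hφ, hr⟩ := hDQ
  obtain ⟨β, hβ, ψ, hψ, he, hm⟩ := exists_extension_normalizer h.pS h.satF hφ hr hQ
  have hφm : ∀ x : D, φ x ∈ Q := fun x => hr ▸ (⟨x, rfl⟩ : φ x ∈ φ.range)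
  have hDN : D ≤ normalizerIn S D := le_normalizerIn hDS
  have hψN : Mp N (normalizerIn S D) (ex ψ) := mp_ex (h.hom_le hc hψ)
  have himg : ∀ y, y ∈ Q ↔ ∃ x ∈ D, ex ψ x = y := by
    intro y
    constructor
    · intro hy
      have h1 : (β.symm ⟨y, hy⟩ : Ω) ∈ φ.range := by
        rw [hr]
        exact (β.symm ⟨y, hy⟩).2
      obtain ⟨x, hx⟩ := h1
      refine ⟨x, x.2, ?_⟩
      rw [ex_apply _ (hDN x.2), he x (hφm x) (hDN x.2)]
      have h2 : (⟨φ x, hφm x⟩ : Q) = β.symm ⟨y, hy⟩ := Subtype.ext hx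
      rw [h2]
      show ((β (β.symm ⟨y, hy⟩) : Q) : Ω) = y
      rw [MulEquiv.apply_symm_apply]
    · rintro ⟨x, hx, rfl⟩
      rw [ex_apply _ (hDN hx), he ⟨x, hx⟩ (hφm _) (hDN hx)]
      exact (β _).2
  have hQn : ¬ NN F N Q := fun h1 => hn (nn_transfer h.le hDS hψN himg h1)
  have hQ1 : Q ≠ ⊥ := by
    rintro rfl
    rw [Subgroup.card_bot] at hcard
    have := one_lt_card hDS hD
    omega
  have h1 := h.max1 Q hQ1 hQ hQn
  have h2 := hQ.2 D (isConj_symm hDQ')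
  refine ⟨by omega, hDS, fun R hR => ?_⟩
  have h3 := hQ.2 R (isConj_trans (isConj_symm hDQ') hR)
  omega

theorem nn_of_lt (h : Ctx F N C) {D : Subgroup Ω} (hDS : D ≤ S) (hD : D ≠ ⊥)
    (hc : Nat.card (normalizerIn S C) < Nat.card (normalizerIn S D)) : NN F N D := by
  by_contra hn
  have := (h.step2 hDS hD hc.le hn).1
  omega

omit [Finite S] in
theorem T_ne (h : Ctx F N C) : normalizerIn S C ≠ ⊥ := by
  intro h1
  exact h.ne (le_bot_iff.1 (h1 ▸ le_normalizerIn h.fn.1))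

theorem nn_T (h : Ctx F N C) : NN F N (normalizerIn S C) := by
  have : Fact (Nat.Prime 2) := ⟨Nat.prime_two⟩
  by_cases hT : normalizerIn S C = S
  · rw [hT]
    exact h.nn_top
  · exact h.nn_of_lt inf_le_left h.T_ne (card_lt_card_normalizerIn h.pS inf_le_left hT)

variable {E : FusionSystem (normalizerIn S C)} {G : Type*} [Group G] {ι : ↥(normalizerIn S C) →* G}

omit [Finite S] in
theorem nrm_C (h : Ctx F N C) (hE : F.IsNormalizerSystem C E) (hm : E.IsModel 2 G ι) (g : G) :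
    Nrm ι C g :=
  nrm_of_isNormal hm (isNormal_normalizerSystem h.fn.1 hE) inf_le_right g

/-- `O_2` of the model is the image of `C`. -/
theorem core_eq (h : Ctx F N C) (hE : F.IsNormalizerSystem C E) (hm : E.IsModel 2 G ι) :
    up ι C = pCore 2 G := by
  have : Fact (Nat.Prime 2) := ⟨Nat.prime_two⟩
  have hnr := h.nrm_C hE hm
  have hCS := h.fn.1
  have hCT : C ≤ normalizerIn S C := le_normalizerIn hCS
  obtain ⟨hfin, hreal, ⟨Sy, hSy⟩, hcen⟩ := hm
  have hpn : (pCore 2 G).Normal := Cfsg.Agent.Lib.Cores.pCore_normal 2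
  have hpr : pCore 2 G ≤ ι.range := by
    rw [← hSy]
    exact Cfsg.Agent.Lib.Cores.pCore_le_sylow Sy
  have hle : up ι C ≤ pCore 2 G := by
    refine Cfsg.Agent.Lib.Cores.le_pCore (normal_of_nrm hnr) ?_
    have h1 : IsPGroup 2 (normalizerIn S C) := h.pS.to_le inf_le_left
    exact (h1.to_subgroup _).map ι
  refine le_antisymm hle ?_
  set C' : Subgroup Ω := ((pCore 2 G).comap ι).map (normalizerIn S C).subtype with hC'
  have hmem : ∀ (x : Ω) (hx : x ∈ normalizerIn S C), x ∈ C' ↔ ι ⟨x, hx⟩ ∈ pCore 2 G := by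
    intro x hx
    constructor
    · rintro ⟨y, hy, hyx⟩
      have h1 : (⟨x, hx⟩ : normalizerIn S C) = y := Subtype.ext hyx.symm
      rw [h1]
      exact hy
    · intro h1
      exact ⟨⟨x, hx⟩, h1, rfl⟩
  have hC'T : C' ≤ normalizerIn S C := by
    rintro _ ⟨x, -, rfl⟩
    exact x.2
  have hCC' : C ≤ C' := fun x hx => (hmem x (hCT hx)).2 (hle ((mem_up hreal.1 (hCT hx)).2 hx))
  have hnr' : ∀ g, Nrm ι C' g := by
    intro g x hx hxT
    obtain ⟨y, hy⟩ := hpr (hpn.conj_mem _ ((hmem x hxT).1 hx) g)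
    refine ⟨y, (hmem y y.2).2 ?_, y.2, hy⟩
    show ι y ∈ _
    rw [hy]
    exact hpn.conj_mem _ ((hmem x hxT).1 hx) g
  have hTn : normalizerIn S C ≤ Subgroup.normalizer (C' : Set Ω) := by
    have h1 : ∀ t ∈ normalizerIn S C, ∀ z ∈ C', t * z * t⁻¹ ∈ C' := by
      intro t ht z hz
      have hzT := hC'T hz
      refine (hmem _ (mul_mem (mul_mem ht hzT) (inv_mem ht))).2 ?_
      have h2 : (⟨t * z * t⁻¹, mul_mem (mul_mem ht hzT) (inv_mem ht)⟩ : normalizerIn S C) =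
        ⟨t, ht⟩ * ⟨z, hzT⟩ * ⟨t, ht⟩⁻¹ := rfl
      rw [h2, map_mul, map_mul, map_inv]
      exact hpn.conj_mem _ ((hmem z hzT).1 hz) _
    intro t ht
    refine mem_normalizer_of (h1 t ht) fun z hz => ?_
    have := h1 t⁻¹ (inv_mem ht) z hz
    simpa using this
  have hC'S : C' ≤ S := hC'T.trans inf_le_left
  have hC'1 : C' ≠ ⊥ := fun h1 => h.ne (le_bot_iff.1 (h1 ▸ hCC'))
  have hnn : ¬ NN F N C' := fun h1 => h.bad (nn_of_normal hE hreal hC'T hTn hnr' h1)
  have hfinN : Finite (normalizerIn S C') := finite_of_le inf_le_left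
  have hcard : Nat.card (normalizerIn S C) ≤ Nat.card (normalizerIn S C') :=
    Nat.card_mono (Set.toFinite _) (le_inf inf_le_left hTn)
  obtain ⟨h3, h4⟩ := h.step2 hC'S hC'1 hcard hnn
  have h5 := h.max2 C' hC'1 h4 hnn h3
  have hfinC' : Finite C' := finite_of_le hC'S
  have h6 : C = C' := Subgroup.eq_of_le_of_card_ge hCC' h5
  intro y hy
  obtain ⟨x, rfl⟩ := hpr hy
  exact (mem_up hreal.1 x.2).2 (h6.ge ((hmem x x.2).2 hy))

theorem centric (h : Ctx F N C) (hE : F.IsNormalizerSystem C E) (hm : E.IsModel 2 G ι) :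
    F.IsCentric C := by
  have : Fact (Nat.Prime 2) := ⟨Nat.prime_two⟩
  have hcore := h.core_eq hE hm
  obtain ⟨hfin, hreal, ⟨Sy, hSy⟩, hcen⟩ := hm
  refine isCentric_of_isFullyCentralized
    (isFullyCentralized_of_isFullyNormalized h.pS h.satF h.fn) fun x hx => ?_
  have hxT : x ∈ normalizerIn S C := ⟨hx.1, Subgroup.centralizer_le_normalizer _ hx.2⟩
  refine (mem_up hreal.1 hxT).1 ?_
  rw [hcore]
  refine hcen (Subgroup.mem_centralizer_iff.2 fun y hy => ?_)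
  have hy' : y ∈ pCore 2 G := hy
  rw [← hcore] at hy'
  obtain ⟨c, hc, hcT, rfl⟩ := mem_up_iff.1 hy'
  rw [← map_mul, ← map_mul]
  congr 1
  exact Subtype.ext (Subgroup.mem_centralizer_iff.1 hx.2 c hc)

end Ctx

end Cfsg.Agent.H89.HM
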